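import Groth.Agent.Lib.BlowUpRegular.Chart
import Groth.Agent.Lib.BlowUp.Rees
import Groth.Agent.S0564
import Groth.Agent.S1681
import Groth.Prelude.Def_Curv2

/-!
# The blow-up of the closed point of a regular local ring is regular and irreducible
-/

set_option linter.style.haveILetI false
set_option backward.isDefEq.respectTransparency false
universe u

open CategoryTheory AlgebraicGeometry IsLocalRing

namespace GrothLib.BlowUpRegular

open GrothLib.BlowUp17 GrothLib.BlowUp

theorem isRegularRing_of_isRegularLocalRing (A : Type u) [CommRing A] [IsRegularLocalRing A] :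
    IsRegularRing A :=
  isRegularRing_iff.2 fun p _ => Groth.Agent.S0564.result A p

theorem regular_of_chart {B : Type u} [CommRing B] {X : Scheme.{u}} (j : Spec (CommRingCat.of B) ⟶ X)
    [IsOpenImmersion j] (q : Spec (CommRingCat.of B))
    (h : IsRegularLocalRing (Localization.AtPrime q.asIdeal)) : IsRegularLocalRing (X.presheaf.stalk (j q)) :=
  haveI := h
  haveI : IsRegularLocalRing ((Spec (CommRingCat.of B)).presheaf.stalk q) :=
    IsRegularLocalRing.of_ringEquiv (R := Localization.AtPrime q.asIdeal)
      (IsLocalization.algEquiv q.asIdeal.primeCompl (Localization.AtPrime q.asIdeal)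
        ((Spec.structureSheaf B).presheaf.stalk q)).toRingEquiv
  IsRegularLocalRing.of_ringEquiv (asIso (j.stalkMap q)).commRingCatIsoToRingEquiv.symm

theorem main (A : Type u) [CommRing A] [IsRegularLocalRing A] (hA : maximalIdeal A ≠ ⊥)
    (X : Scheme.{u}) (b : X ⟶ Spec (CommRingCat.of A))
    (hb : _root_.BlowUp.IsBlowUp b (idealSheaf (maximalIdeal A))) :
    IrreducibleSpace X ∧ ∀ x : X, IsRegularLocalRing (X.presheaf.stalk x) := by
  classical
  haveI := isRegularRing_of_isRegularLocalRing A
  constructor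
  · have := GrothLib.CMFree.isDomain_of_isRegularLocalRing A
    have hbij := Groth.Agent.S1681.result _ b hb
    have hη : ∀ x : Spec (CommRingCat.of A),
        ((∀ y : Spec (CommRingCat.of A), y ⤳ x → y = x) ∧ x ∉ (idealSheaf (maximalIdeal A)).support) →
          x = genericPoint (Spec (CommRingCat.of A)) := fun x hx =>
      (hx.1 (genericPoint (Spec (CommRingCat.of A))) (genericPoint_specializes (α := Spec (CommRingCat.of A)) x)).symm
    have hηs : genericPoint (Spec (CommRingCat.of A)) ∉ (idealSheaf (maximalIdeal A)).support := by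
      intro h
      have hall : ((idealSheaf (maximalIdeal A)).support : Set (Spec (CommRingCat.of A))) = Set.univ :=
        Set.univ_subset_iff.1 ((genericPoint_spec (Spec (CommRingCat.of A))).def ▸
          ((idealSheaf (maximalIdeal A)).support.isClosed.closure_subset_iff).2
            (Set.singleton_subset_iff.2 h))
      rw [idealSheaf, Scheme.IdealSheafData.coe_support_ofIdealTop, Spec_zeroLocus, ← Ideal.coe_comap,
        Ideal.comap_map_of_bijective _ (ConcreteCategory.bijective_of_isIso (Scheme.ΓSpecIso (CommRingCat.of A)).inv)] at hall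
      have := (PrimeSpectrum.zeroLocus_eq_univ_iff _).1 hall
      rw [nilradical_eq_zero, Ideal.zero_eq_bot] at this
      exact hA (le_bot_iff.1 this)
    obtain ⟨η', hη', -⟩ := hbij.surjOn
      (⟨fun y hy => (hy.antisymm (genericPoint_specializes y)).eq, hηs⟩ :
        genericPoint (Spec (CommRingCat.of A)) ∈ {x : Spec (CommRingCat.of A) | (∀ y, y ⤳ x → y = x) ∧
          x ∉ (idealSheaf (maximalIdeal A)).support})
    have hmax : ∀ x : X, ∃ z, (∀ y : X, y ⤳ z → y = z) ∧ z ⤳ x := by
      intro x
      obtain ⟨Z, hZ, hxZ⟩ : ∃ Z ∈ irreducibleComponents (X : Type u), x ∈ Z :=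
        ⟨irreducibleComponent x, irreducibleComponent_mem_irreducibleComponents x, mem_irreducibleComponent⟩
      have hZc := isClosed_of_mem_irreducibleComponents Z hZ
      obtain ⟨z, hz⟩ := QuasiSober.sober hZ.1 hZc
      refine ⟨z, fun y hy => ?_, hz.specializes hxZ⟩
      have h1 : Z ⊆ closure {y} := hz.def ▸ (isClosed_closure.closure_subset_iff.2
        (Set.singleton_subset_iff.2 hy.mem_closure))
      have h2 : closure {y} ⊆ Z := hZ.2 isIrreducible_singleton.closure h1
      exact ((hz.specializes (h2 (subset_closure rfl))).antisymm hy).eq.symm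
    haveI : Nonempty X := ⟨η'⟩
    suffices h : IsIrreducible (Set.univ : Set X) from (irreducibleSpace_def X).2 h
    have : (Set.univ : Set X) = closure {η'} := by
      refine (Set.eq_univ_of_forall fun x => ?_).symm
      obtain ⟨z, hz, hzx⟩ := hmax x
      have e : z = η' := hbij.injOn hz hη'
        ((hη _ (hbij.mapsTo hz)).trans (hη _ (hbij.mapsTo hη')).symm)
      exact specializes_iff_mem_closure.1 (e ▸ hzx)
    rw [this]
    exact isIrreducible_singleton.closure
  · intro x
    obtain ⟨n, z, hz, hreg⟩ : ∃ (n : ℕ) (z : Fin n → A), Ideal.span (Set.range z) = maximalIdeal A ∧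
        RingTheory.Sequence.IsWeaklyRegular A (List.ofFn z) := by
      obtain ⟨z, hz⟩ := GrothLib.RegLoc.exists_generators_fin (maximalIdeal A)
      exact ⟨_, z, hz, GrothLib.RegLoc.isWeaklyRegular_ofFn _ A rfl z hz⟩
    generalize hI : maximalIdeal A = I at hb hz
    subst hz
    have hmx : (ctr z).IsMaximal := by rw [ctr, ← hI]; exact maximalIdeal.isMaximal A
    obtain ⟨h, hh, -⟩ := (isBlowUp_proj (ctr z)).2 X b hb.1
    obtain ⟨k, hk, -⟩ := hb.2 _ _ (isBlowUp_proj (ctr z)).1
    have e1 : h ≫ k = 𝟙 X := GrothLib.BlowUp.hom_ext hb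
      (by rw [Category.assoc, hk, hh, Category.id_comp]) (by rw [Category.assoc, hk, hh]; exact hb.1)
    have e2 : k ≫ h = 𝟙 _ := GrothLib.BlowUp.hom_ext (isBlowUp_proj (ctr z))
      (by rw [Category.assoc, hh, hk, Category.id_comp])
      (by rw [Category.assoc, hh, hk]; exact (isBlowUp_proj (ctr z)).1)
    haveI : IsIso h := ⟨k, e1, e2⟩
    let C := GrothLib.BlowUp.reesCharts (ctr z)
    obtain ⟨c, q, hq⟩ := C.covers (h x)
    have hi : ∃ i, frac (c : A) (⟨z i, Ideal.subset_span ⟨i, rfl⟩⟩ : ctr z) ∉ q.asIdeal := by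
      by_contra hall
      push Not at hall
      obtain ⟨d, hd⟩ := Ideal.mem_span_range_iff_exists_fun.1 c.2
      have : (1 : _root_.BlowUp.affineAlgebra A (ctr z) (c : A)) =
          ∑ i, algebraMap A _ (d i) * frac (c : A) (⟨z i, Ideal.subset_span ⟨i, rfl⟩⟩ : ctr z) := by
        refine (mul_cancel_left_mem_nonZeroDivisors (algebraMap_mem_nonZeroDivisors (I := ctr z) (c : A))).1 ?_
        rw [mul_one, Finset.mul_sum]
        refine (((congrArg (algebraMap A ↥(_root_.BlowUp.affineAlgebra A (ctr z) (c : A))) hd).symm).trans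
          (map_sum _ _ _)).trans (Finset.sum_congr rfl fun j _ => ?_)
        rw [map_mul, mul_left_comm, algebraMap_mul_frac]
      exact q.isPrime.ne_top ((Ideal.eq_top_iff_one _).2
        (this ▸ Ideal.sum_mem _ fun i _ => Ideal.mul_mem_left _ _ (hall i)))
    obtain ⟨i, hi⟩ := hi
    obtain ⟨q', hq'⟩ := C.overlap ⟨z i, Ideal.subset_span ⟨i, rfl⟩⟩ c q hi
    rw [hq] at hq'
    let j' := C.j ⟨z i, Ideal.subset_span ⟨i, rfl⟩⟩ ≫ inv h
    have hx : j' q' = x := by
      show inv h (C.j _ q') = x
      rw [hq', ← Scheme.Hom.comp_apply, IsIso.hom_inv_id]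
      rfl
    haveI := isRegularLocalRing_chart z i hreg hmx q'.asIdeal
    have := regular_of_chart (B := Chart z i) j' q' inferInstance
    rwa [hx] at this

end GrothLib.BlowUpRegular
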