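import Groth.Agent.Lib.BlowUp17.RegularAlg
import Groth.Agent.Lib.BlowUp.Rees
import Mathlib.AlgebraicGeometry.ProjectiveSpectrum.Proper

/-!
# The cover of a blow-up by the charts of generators of the centre
-/

set_option linter.style.haveILetI false
set_option backward.isDefEq.respectTransparency false
universe u

open CategoryTheory AlgebraicGeometry

namespace GrothLib.BlowUpRegular

open GrothLib.BlowUp17 GrothLib.BlowUp

variable {A : Type u} [CommRing A] {n : ℕ} (z : Fin n → A) {X : Scheme.{u}} {b : X ⟶ Spec (CommRingCat.of A)}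

/-- The blow-up in `(z₁, …, zₙ)` is separated and covered by `n` affine opens. -/
theorem exists_affine_cover (hb : _root_.BlowUp.IsBlowUp b (idealSheaf (ctr z))) :
    X.IsSeparated ∧ ∃ U : Fin n → X.Opens, (∀ i, IsAffineOpen (U i)) ∧ ⨆ i, U i = ⊤ := by
  classical
  obtain ⟨h, hh, -⟩ := (isBlowUp_proj (ctr z)).2 X b hb.1
  obtain ⟨k, hk, -⟩ := hb.2 _ _ (isBlowUp_proj (ctr z)).1
  have e1 : h ≫ k = 𝟙 X := GrothLib.BlowUp.hom_ext hb
    (by rw [Category.assoc, hk, hh, Category.id_comp]) (by rw [Category.assoc, hk, hh]; exact hb.1)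
  have e2 : k ≫ h = 𝟙 _ := GrothLib.BlowUp.hom_ext (isBlowUp_proj (ctr z))
    (by rw [Category.assoc, hh, hk, Category.id_comp])
    (by rw [Category.assoc, hh, hk]; exact (isBlowUp_proj (ctr z)).1)
  haveI : IsIso h := ⟨k, e1, e2⟩
  refine ⟨⟨by rw [← Limits.terminal.comp_from h]; infer_instance⟩, ?_⟩
  let C := GrothLib.BlowUp.reesCharts (ctr z)
  let g : Fin n → ctr z := fun i => ⟨z i, Ideal.subset_span ⟨i, rfl⟩⟩
  refine ⟨fun i => (C.j (g i) ≫ inv h).opensRange, fun i => isAffineOpen_opensRange _,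
    top_unique fun x _ => TopologicalSpace.Opens.mem_iSup.2 ?_⟩
  obtain ⟨c, q, hq⟩ := C.covers (h x)
  have hi : ∃ i, frac (c : A) (g i) ∉ q.asIdeal := by
    by_contra hall
    push Not at hall
    obtain ⟨d, hd⟩ := Ideal.mem_span_range_iff_exists_fun.1 c.2
    have : (1 : _root_.BlowUp.affineAlgebra A (ctr z) (c : A)) =
        ∑ i, algebraMap A _ (d i) * frac (c : A) (g i) := by
      refine (mul_cancel_left_mem_nonZeroDivisors (algebraMap_mem_nonZeroDivisors (I := ctr z) (c : A))).1 ?_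
      rw [mul_one, Finset.mul_sum]
      refine (((congrArg (algebraMap A ↥(_root_.BlowUp.affineAlgebra A (ctr z) (c : A))) hd).symm).trans
        (map_sum _ _ _)).trans (Finset.sum_congr rfl fun j _ => ?_)
      rw [map_mul, mul_left_comm, algebraMap_mul_frac]
    exact q.isPrime.ne_top ((Ideal.eq_top_iff_one _).2
      (this ▸ Ideal.sum_mem _ fun i _ => Ideal.mul_mem_left _ _ (hall i)))
  obtain ⟨i, hi⟩ := hi
  obtain ⟨q', hq'⟩ := C.overlap (g i) c q hi
  rw [hq] at hq'
  refine ⟨i, q', ?_⟩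
  show inv h (C.j _ q') = x
  rw [hq', ← Scheme.Hom.comp_apply, IsIso.hom_inv_id]
  rfl

end GrothLib.BlowUpRegular
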