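import Groth.Agent.Lib.BlowUp17.RegularAlg
import Groth.Agent.Lib.RegLoc.Basic
import Groth.Agent.Lib.GeomReg.FG
import Groth.Agent.Lib.Altitude.Scheme
import Mathlib.RingTheory.RegularLocalRing.Polynomial

/-!
# Charts of the blow-up in a regular sequence cutting out a point are regular
-/

set_option backward.isDefEq.respectTransparency false
set_option linter.style.haveILetI false
universe u

open MvPolynomial RingTheory.Sequence IsLocalRing

namespace GrothLib.BlowUpRegular

open GrothLib.BlowUp17 GrothLib.BlowUp

/-- Regularity of a local ring from regularity of the hypersurface through it. -/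
theorem isRegularLocalRing_of_dvd {B : Type u} [CommRing B] [IsNoetherianRing B] (t : B)
    (htn : t ∈ nonZeroDivisors B) [IsRegularRing (B ⧸ Ideal.span {t})] (q : Ideal B) [q.IsPrime]
    (htq : t ∈ q) : IsRegularLocalRing (Localization.AtPrime q) := by
  haveI : (q.map (Ideal.Quotient.mk (Ideal.span {t}))).IsPrime :=
    Ideal.map_isPrime_of_surjective Ideal.Quotient.mk_surjective
      (by rw [Ideal.mk_ker, Ideal.span_singleton_le_iff_mem]; exact htq)
  have hmap : (Ideal.span {algebraMap B (Localization.AtPrime q) t} : Ideal (Localization.AtPrime q)) =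
      (Ideal.span {t}).map (algebraMap B (Localization.AtPrime q)) := by
    rw [Ideal.map_span, Set.image_singleton]
  let φ : B ⧸ Ideal.span {t} →+*
      Localization.AtPrime q ⧸ Ideal.span {algebraMap B (Localization.AtPrime q) t} :=
    Ideal.quotientMap _ (algebraMap B (Localization.AtPrime q)) (hmap ▸ Ideal.le_comap_map)
  letI := φ.toAlgebra
  haveI hloc : IsLocalization (q.primeCompl.map (Ideal.Quotient.mk (Ideal.span {t})))
      (Localization.AtPrime q ⧸ Ideal.span {algebraMap B (Localization.AtPrime q) t}) := by
    refine IsLocalization.of_surjective (S := Localization.AtPrime q) q.primeCompl (Ideal.Quotient.mk _)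
      Ideal.Quotient.mk_surjective (Ideal.Quotient.mk _) Ideal.Quotient.mk_surjective
      (RingHom.ext fun r => rfl) ?_
    rw [Ideal.mk_ker, Ideal.mk_ker, hmap]
  rw [GrothLib.Altitude.map_primeCompl_le q (Ideal.span {t})
    (by rw [Ideal.span_singleton_le_iff_mem]; exact htq)] at hloc
  haveI : IsRegularLocalRing
      (Localization.AtPrime q ⧸ Ideal.span {algebraMap B (Localization.AtPrime q) t}) :=
    IsRegularLocalRing.of_ringEquiv (R := Localization.AtPrime (q.map (Ideal.Quotient.mk (Ideal.span {t}))))
      (IsLocalization.algEquiv (q.map (Ideal.Quotient.mk (Ideal.span {t}))).primeCompl _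
        (Localization.AtPrime q ⧸ Ideal.span {algebraMap B (Localization.AtPrime q) t})).toRingEquiv
  refine GrothLib.RegLoc.isRegularLocalRing_of_quotient (x := algebraMap B (Localization.AtPrime q) t) ?_ ?_
  · exact (IsLocalization.AtPrime.to_map_mem_maximal_iff _ q t _).2 htq
  · exact (IsLocalization.map_nonZeroDivisors_le q.primeCompl (Localization.AtPrime q)) ⟨t, htn, rfl⟩

variable {A : Type u} [CommRing A] [IsRegularRing A]
  {n : ℕ} (a : Fin n → A) (i : Fin n)

theorem isRegularLocalRing_chart (ha : IsWeaklyRegular A (List.ofFn a)) (hm : (ctr a).IsMaximal)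
    (q : Ideal (Chart a i)) [q.IsPrime] : IsRegularLocalRing (Localization.AtPrime q) := by
  classical
  haveI : IsNoetherianRing (Chart a i) :=
    isNoetherianRing_of_surjective _ _ (pres a i).toRingHom (pres_surjective a i)
  set B := Chart a i
  set t : B := algebraMap A B (a i) with ht
  have htn : t ∈ nonZeroDivisors B := algebraMap_mem_nonZeroDivisors (I := ctr a) (a i)
  by_cases htq : t ∈ q
  · -- on the exceptional divisor
    let θ : MvPolynomial (Var i) A →+* B ⧸ Ideal.span {t} :=
      (Ideal.Quotient.mk _).comp (pres a i).toRingHom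
    have hθ : Function.Surjective θ := Ideal.Quotient.mk_surjective.comp (pres_surjective a i)
    have hker : RingHom.ker θ = (ctr a).map (C : A →+* MvPolynomial (Var i) A) := by
      refine le_antisymm (fun P hP => mem_of_pres_mem a i ha P (Ideal.Quotient.eq_zero_iff_mem.1 hP)) ?_
      rw [Ideal.map_le_iff_le_comap, Ideal.span_le]
      rintro _ ⟨j, rfl⟩
      show θ (C (a j)) = 0
      refine Ideal.Quotient.eq_zero_iff_mem.2 ?_
      rw [← MvPolynomial.algebraMap_eq, AlgHom.toRingHom_eq_coe, RingHom.coe_coe, AlgHom.commutes,
        ← mul_fr a i j]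
      exact Ideal.mul_mem_right _ _ (Ideal.mem_span_singleton_self t)
    letI := Ideal.Quotient.field (ctr a)
    haveI : IsRegularRing (MvPolynomial (Var i) (A ⧸ ctr a)) := inferInstance
    haveI : IsRegularRing (B ⧸ Ideal.span {t}) := IsRegularRing.of_ringEquiv
      ((MvPolynomial.quotientEquivQuotientMvPolynomial (ctr a)).toRingEquiv.trans
        ((Ideal.quotEquivOfEq hker.symm).trans (RingHom.quotientKerEquivOfSurjective hθ)))
    exact isRegularLocalRing_of_dvd t htn q htq
  · -- off the exceptional divisor
    haveI hB : IsLocalization (Submonoid.powers t) (Localization.Away (a i)) := by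
      refine ⟨?_, ?_, ?_⟩
      · rintro ⟨_, m, rfl⟩
        show IsUnit (((t ^ m : B) : Localization.Away (a i)))
        rw [SubmonoidClass.coe_pow]
        exact (IsLocalization.Away.algebraMap_isUnit (a i)).pow m
      · intro z
        obtain ⟨⟨r, _, m, rfl⟩, hr⟩ := IsLocalization.surj (Submonoid.powers (a i)) z
        refine ⟨⟨algebraMap A B r, ⟨t ^ m, m, rfl⟩⟩, ?_⟩
        show z * ((t ^ m : B) : Localization.Away (a i)) = algebraMap A (Localization.Away (a i)) r
        rw [SubmonoidClass.coe_pow, ← hr]
        rw [map_pow]
        rfl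
      · intro x y hxy
        exact ⟨1, by rw [Subtype.ext hxy]⟩
    haveI : IsRegularRing (Localization.Away (a i)) :=
      GrothLib.GeomReg.isRegularRing_of_isLocalization (Submonoid.powers (a i)) _
    set S := Localization.Away (a i)
    have hdisj : Disjoint (Submonoid.powers t : Set B) (q : Set B) :=
      Set.disjoint_left.2 fun b ⟨m, hb⟩ hbq => htq ((‹q.IsPrime›).mem_of_pow_mem m ((show t ^ m = b from hb) ▸ hbq))
    set p := q.map (algebraMap B S)
    haveI hp : p.IsPrime := IsLocalization.isPrime_of_isPrime_disjoint (Submonoid.powers t) S q inferInstance hdisj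
    have hcomap : p.comap (algebraMap B S) = q :=
      IsLocalization.under_map_of_isPrime_disjoint (Submonoid.powers t) S inferInstance hdisj
    have h1 : IsLocalization.AtPrime (Localization.AtPrime p) (p.comap (algebraMap B S)) :=
      IsLocalization.isLocalization_isLocalization_atPrime_isLocalization (Submonoid.powers t) (Localization.AtPrime p) p
    haveI : IsLocalization.AtPrime (Localization.AtPrime q) (p.comap (algebraMap B S)) := by
      simp only [hcomap]
      infer_instance
    exact IsRegularLocalRing.of_ringEquiv (R := Localization.AtPrime p)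
      (IsLocalization.algEquiv (p.comap (algebraMap B S)).primeCompl (Localization.AtPrime p)
        (Localization.AtPrime q)).toRingEquiv

end GrothLib.BlowUpRegular
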